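import Mathlib

/-!
# Enough injectives in presheaves of modules: coinduced presheaves
-/

set_option autoImplicit false

universe u

open CategoryTheory Opposite Limits

namespace Groth.Agent.AdeqInj

variable {C : Type (u + 1)} [Category.{u} C] {R : Cᵒᵖ ⥤ RingCat.{u}}
  (J : ∀ X : Cᵒᵖ, ModuleCat.{u + 1} (R.obj X))

/-- families indexed by the arrows out of `Y` -/
def Coind (Y : Cᵒᵖ) : Type (u + 1) := ∀ X : Cᵒᵖ, (Y ⟶ X) → J X

instance (Y : Cᵒᵖ) : AddCommGroup (Coind J Y) :=
  inferInstanceAs (AddCommGroup (∀ X : Cᵒᵖ, (Y ⟶ X) → J X))

noncomputable instance (Y : Cᵒᵖ) : Module (R.obj Y) (Coind J Y) where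
  smul r p := fun X f => (R.map f).hom r • p X f
  one_smul p := funext fun X => funext fun f => by
    show (R.map f).hom 1 • p X f = p X f
    rw [map_one, one_smul]
  mul_smul r s p := funext fun X => funext fun f => by
    show (R.map f).hom (r * s) • p X f = (R.map f).hom r • ((R.map f).hom s • p X f)
    rw [map_mul, mul_smul]
  smul_zero r := funext fun X => funext fun f => by
    show (R.map f).hom r • (0 : J X) = 0
    rw [smul_zero]
  smul_add r p q := funext fun X => funext fun f => by
    show (R.map f).hom r • (p X f + q X f) = (R.map f).hom r • p X f + (R.map f).hom r • q X f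
    rw [smul_add]
  add_smul r s p := funext fun X => funext fun f => by
    show (R.map f).hom (r + s) • p X f = (R.map f).hom r • p X f + (R.map f).hom s • p X f
    rw [map_add, add_smul]
  zero_smul p := funext fun X => funext fun f => by
    show (R.map f).hom 0 • p X f = 0
    rw [map_zero, zero_smul]

theorem smul_apply {Y : Cᵒᵖ} (r : R.obj Y) (p : Coind J Y) (X : Cᵒᵖ) (f : Y ⟶ X) :
    (r • p) X f = (R.map f).hom r • p X f := rfl

/-- the coinduced presheaf of modules -/
noncomputable def coind : PresheafOfModules.{u + 1} R where
  obj Y := ModuleCat.of (R.obj Y) (Coind J Y)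
  map {Y Y'} g := ModuleCat.ofHom
    (Y := (ModuleCat.restrictScalars (R.map g).hom).obj (ModuleCat.of (R.obj Y') (Coind J Y')))
    { toFun := fun p X f => p X (g ≫ f)
      map_add' := fun _ _ => rfl
      map_smul' := fun r p => funext fun X => funext fun f => by
        show (R.map (g ≫ f)).hom r • p X (g ≫ f) = (R.map f).hom ((R.map g).hom r) • p X (g ≫ f)
        rw [R.map_comp]
        rfl }
  map_id Y := by
    ext p
    funext X f
    exact congrArg (p X) (Category.id_comp f)
  map_comp g h := by
    ext p
    funext X f
    exact congrArg (p X) (Category.assoc g h f)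

/-- the map to a coinduced presheaf given by maps at every object -/
noncomputable def lift {N : PresheafOfModules.{u + 1} R} (e : ∀ X, N.obj X ⟶ J X) : N ⟶ coind J where
  app Y := ModuleCat.ofHom (Y := Coind J Y)
    { toFun := fun n X f => (e X).hom (N.map f n)
      map_add' := fun a b => funext fun X => funext fun f => by
        show (e X).hom (N.map f (a + b)) = (e X).hom (N.map f a) + (e X).hom (N.map f b)
        exact (congrArg (e X).hom (map_add (N.map f).hom a b)).trans (map_add (e X).hom _ _)
      map_smul' := fun r n => funext fun X => funext fun f => by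
        show (e X).hom (N.map f (r • n)) = (R.map f).hom r • (e X).hom (N.map f n)
        exact (congrArg (e X).hom (N.map_smul f r n)).trans (map_smul (e X).hom _ _) }
  naturality {Y Y'} g := by
    ext n
    funext X f
    show (e X).hom (N.map f (N.map g n)) = (e X).hom (N.map (g ≫ f) n)
    rw [N.map_comp_apply]

theorem lift_app_id {N : PresheafOfModules.{u + 1} R} (e : ∀ X, N.obj X ⟶ J X) (X : Cᵒᵖ) (n : N.obj X) :
    ((lift J e).app X n : Coind J X) X (𝟙 X) = (e X).hom n := by
  show (e X).hom (N.map (𝟙 X) n) = (e X).hom n
  rw [N.map_id]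
  rfl

/-- the value at the identity -/
noncomputable def proj (X : Cᵒᵖ) : (coind J).obj X ⟶ J X :=
  ModuleCat.ofHom (X := Coind J X)
    { toFun := fun p => p X (𝟙 X)
      map_add' := fun _ _ => rfl
      map_smul' := fun r p => by
        show (R.map (𝟙 X)).hom r • p X (𝟙 X) = r • p X (𝟙 X)
        rw [R.map_id]
        rfl }

theorem injective_coind [∀ X, Injective (J X)] : Injective (coind J) where
  factors {M N} φ i _ := by
    have : ∀ X, Mono (i.app X) := fun X => inferInstance
    refine ⟨lift J fun X => Injective.factorThru (φ.app X ≫ proj J X) (i.app X), ?_⟩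
    ext Y m
    funext X f
    show (Injective.factorThru (φ.app X ≫ proj J X) (i.app X)).hom
      (N.map f (i.app Y m)) = (φ.app Y m : Coind J Y) X f
    rw [← PresheafOfModules.naturality_apply i f m]
    have h := ConcreteCategory.congr_hom (Injective.comp_factorThru (φ.app X ≫ proj J X)
      (i.app X)) (M.map f m)
    refine h.trans ?_
    show (φ.app X (M.map f m) : Coind J X) X (𝟙 X) = _
    rw [PresheafOfModules.naturality_apply φ f m]
    show (φ.app Y m : Coind J Y) X (f ≫ 𝟙 X) = _
    rw [Category.comp_id]

theorem enoughInjectives (R : Cᵒᵖ ⥤ RingCat.{u}) : EnoughInjectives (PresheafOfModules.{u + 1} R) where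
  presentation F := by
    let p := fun X : Cᵒᵖ => (EnoughInjectives.presentation (F.obj X)).some
    let J : ∀ X : Cᵒᵖ, ModuleCat.{u + 1} (R.obj X) := fun X => (p X).J
    let l : F ⟶ coind J := lift J fun X => (p X).f
    have hJ : ∀ X, Injective (J X) := fun X => (p X).injective
    have hl : Mono l := by
      refine Mono.mk fun {Z} a b h => ?_
      ext X z
      have h2 := ConcreteCategory.congr_hom (congrArg (fun t => t.app X) h) z
      have h3 := congrArg (fun q : Coind J X => q X (𝟙 X)) h2
      have h4 : (p X).f.hom (a.app X z) = (p X).f.hom (b.app X z) :=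
        ((lift_app_id J (fun X => (p X).f) X (a.app X z)).symm.trans h3).trans (lift_app_id J (fun X => (p X).f) X (b.app X z))
      exact (ModuleCat.mono_iff_injective (p X).f).1 (p X).mono h4
    exact ⟨{ J := coind J, injective := injective_coind J, f := l, mono := hl }⟩

end Groth.Agent.AdeqInj
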